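import Cfsg.Agent.Lib.Comp.Fast

set_option maxRecDepth 100000
set_option Elab.async false

namespace Cfsg.Lib.Comp.U43k

universe u

def iv : ℕ → ℕ := (fun x => look (nat_lit 0xffef7cefae78df6d74cf2c70beeb6caeaa689e69648e28607de75c6da6585d65544d24503ce34c2ca2091871440c2040) 6 x)

noncomputable def R : List (List ℕ × ℕ) := [([1],1),
 ([2],1),
 ([3],1),
 ([4],1),
 ([5],1),
 ([1,2],1),
 ([1,3],1),
 ([1,4],1),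
 ([1,5],1),
 ([2,3],1),
 ([2,4],1),
 ([2,5,2,5,1],0),
 ([3,4,3,4,1],0),
 ([3,5,3,5,1],0),
 ([4,5],1),
 ([6],2),
 ([6,1,7,1],0),
 ([6,2,7,2,3],0),
 ([6,3,7,2],0),
 ([6,4,7,5],0),
 ([6,5,7,4,5],0),
 ([8],2),
 ([8,1,9,1],0),
 ([8,2,9,4],0),
 ([8,3,9,4,5],0),
 ([8,4,9,1,2,4],0),
 ([8,5,9,2,5,3],0),
 ([6,8,7,9],0),
 ([6,7],0),
 ([8,9],0)]

def L : List ℕ := [1,2,3,4,5,6,7,8,9]

end Cfsg.Lib.Comp.U43k
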