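import Cfsg.Agent.Lib.Comp.U43k.Base

set_option maxRecDepth 100000
set_option Elab.async false

namespace Cfsg.Lib.Comp.U43k

universe u

noncomputable def T1_R : List (List ℕ × ℕ) := [([1],1),
 ([2],1),
 ([3],1),
 ([4],1),
 ([5],1),
 ([1,2],1),
 ([1,3],1),
 ([1,4],1),
 ([1,5],1),
 ([2,3],1),
 ([2,4],1),
 ([2,5,2,5,1],0),
 ([3,4,3,4,1],0),
 ([3,5,3,5,1],0),
 ([4,5],1),
 ([6],2),
 ([6,1,7,1],0),
 ([6,2,7,2,3],0),
 ([6,3,7,2],0),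
 ([6,4,7,5],0),
 ([6,5,7,4,5],0),
 ([6,7],0)]

noncomputable def T1_n_6 : Net :=
 (Net.cons 1 (nat_lit 0x2)
 (Net.cons 1 (nat_lit 0x1)
 Net.nil))

noncomputable def T1_n : List Net := [Net.nil,
 Net.nil,
 Net.nil,
 Net.nil,
 Net.nil,
 Net.nil,
 T1_n_6,
 Net.rev T1_n_6]

theorem T1_n_ok : NetsOK 3 T1_n := netsOK_of (by decide +kernel)

theorem T1_n_rel : Rels (gp T1_n) T1_R := rels_of_relsB (k := 2) T1_n_ok (by norm_num) (by decide +kernel)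

theorem T1_fin : finB 3 T1_n [1,2,3,4,5,6,7] 3 (runH 3 T1_n (fun x p => ptInv (nth Net.nil T1_n x) p) iv T1_R [] ([1,2,3,4,5].map fun x => [x]) 0 []
  [1,5,9,13,17,84,60,64,68,72,76,80,84,68]
  (defsH 3 T1_n (ones 30) [6,7] (Nat.shiftLeft 1 0) 0)) = true := by decide +kernel

theorem T1_idx : Idx.{u} iv (T1_R ++ []) ([1,2,3,4,5].map fun x => [x]) [1,2,3,4,5,6,7] 3 :=
  Reach.idx T1_n_ok (reach_runH T1_n_ok (fun x p _ => ptInv_gp T1_n_ok x p) T1_n_rel (reach_defsH T1_n_ok _ _ _ _ _ _) _ _) T1_fin (by norm_num)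

end Cfsg.Lib.Comp.U43k
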